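import Groth.Agent.Lib.GeomIrr18.Alg
import Mathlib.RingTheory.TensorProduct.MvPolynomial
import Mathlib.RingTheory.Polynomial.UniqueFactorization
import Mathlib.RingTheory.Localization.FractionRing
import Mathlib.RingTheory.Localization.AtPrime.Basic
import Mathlib.Algebra.MvPolynomial.Nilpotent

/-! # Polynomials over a domain and primes meeting neither the constants nor the scalars -/

set_option autoImplicit false
universe u

set_option backward.isDefEq.respectTransparency.types false
set_option backward.isDefEq.respectTransparency false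

open MvPolynomial
open scoped TensorProduct

namespace Groth.Agent.ClProd26

variable (k : Type u) [Field k] (σ : Type u) (B : Type u) [CommRing B] [IsDomain B] [Algebra k B]

/-- From `B[σ]` to `(Frac B)[σ]`. -/
noncomputable def toM : MvPolynomial σ B →+* MvPolynomial σ (FractionRing B) :=
  MvPolynomial.map (algebraMap B (FractionRing B))

/-- From `k[σ]` to `B[σ]`. -/
noncomputable def kt : MvPolynomial σ k →+* MvPolynomial σ B := MvPolynomial.map (algebraMap k B)

theorem toM_injective : Function.Injective (toM σ B) :=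
  MvPolynomial.map_injective _ (IsFractionRing.injective B _)

theorem kt_injective : Function.Injective (kt k σ B) :=
  MvPolynomial.map_injective _ (algebraMap k B).injective

theorem exists_denom (c : MvPolynomial σ (FractionRing B)) :
    ∃ (b : B) (a : MvPolynomial σ B), b ≠ 0 ∧ toM σ B a = toM σ B (C b) * c := by
  induction c using MvPolynomial.induction_on with
  | C m =>
    obtain ⟨x, y, hy, rfl⟩ := IsFractionRing.div_surjective (A := B) m
    refine ⟨y, C x, nonZeroDivisors.ne_zero hy, ?_⟩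
    have hy' : algebraMap B (FractionRing B) y ≠ 0 := IsFractionRing.to_map_ne_zero_of_mem_nonZeroDivisors hy
    simp only [toM, MvPolynomial.map_C, ← map_mul, mul_div_cancel₀ _ hy']
  | add p q hp hq =>
    obtain ⟨b, a, hb, ha⟩ := hp
    obtain ⟨b', a', hb', ha'⟩ := hq
    refine ⟨b * b', C b' * a + C b * a', mul_ne_zero hb hb', ?_⟩
    rw [map_add, map_mul, map_mul, ha, ha', C_mul, map_mul]
    ring
  | mul_X p i hp =>
    obtain ⟨b, a, hb, ha⟩ := hp
    refine ⟨b, a * X i, hb, ?_⟩
    rw [map_mul, ha, mul_assoc]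
    simp [toM]

theorem isUnit_toM_C {b : B} (hb : b ≠ 0) : IsUnit (toM σ B (C b)) := by
  rw [toM, MvPolynomial.map_C]
  exact (IsUnit.mk0 _ ((map_ne_zero_iff _ (IsFractionRing.injective B _)).2 hb)).map C

theorem exists_C_eq {z : MvPolynomial σ (FractionRing B)} (hz : IsUnit z) :
    ∃ m : FractionRing B, m ≠ 0 ∧ z = C m := by
  obtain ⟨r, hr, rfl⟩ := MvPolynomial.isUnit_iff_eq_C_of_isReduced.1 hz
  exact ⟨r, hr.ne_zero, rfl⟩

/-- A map from the quotient by a polynomial over the base field back from the tensor product. -/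
theorem eq_zero_of_tensor {M : Type u} [CommRing M] [Algebra k M] (p : MvPolynomial σ k)
    (I : Ideal (MvPolynomial σ M)) (hI : MvPolynomial.map (algebraMap k M) p ∈ I) {a : MvPolynomial σ M}
    (ha : eval₂Hom (Algebra.TensorProduct.includeRight : M →ₐ[k] (MvPolynomial σ k ⧸ Ideal.span {p}) ⊗[k] M).toRingHom
      (fun i => Ideal.Quotient.mk (Ideal.span {p}) (X i) ⊗ₜ[k] (1 : M)) a = 0) : a ∈ I := by
  have hμ : ∀ a ∈ Ideal.span {p}, ((Ideal.Quotient.mkₐ k I).comp (MvPolynomial.mapAlgHom (Algebra.ofId k M))) a = 0 := by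
    intro a ha
    obtain ⟨c, rfl⟩ := Ideal.mem_span_singleton.1 ha
    have : ((Ideal.Quotient.mkₐ k I).comp (MvPolynomial.mapAlgHom (Algebra.ofId k M))) p = 0 :=
      Ideal.Quotient.eq_zero_iff_mem.2 hI
    rw [map_mul, this, zero_mul]
  let ψ := Algebra.TensorProduct.lift (Ideal.Quotient.liftₐ _ _ hμ)
    ((Ideal.Quotient.mkₐ k I).comp (IsScalarTower.toAlgHom k M (MvPolynomial σ M))) (fun x y => mul_comm _ _)
  have hψ : ψ.toRingHom.comp (eval₂Hom
      (Algebra.TensorProduct.includeRight : M →ₐ[k] (MvPolynomial σ k ⧸ Ideal.span {p}) ⊗[k] M).toRingHom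
      (fun i => Ideal.Quotient.mk (Ideal.span {p}) (X i) ⊗ₜ[k] (1 : M))) = Ideal.Quotient.mk I := by
    refine MvPolynomial.ringHom_ext (fun m => ?_) fun i => ?_
    · rw [RingHom.comp_apply, eval₂Hom_C]
      show ψ ((1 : MvPolynomial σ k ⧸ Ideal.span {p}) ⊗ₜ[k] m) = _
      rw [Algebra.TensorProduct.lift_tmul, map_one, one_mul]
      rfl
    · rw [RingHom.comp_apply, eval₂Hom_X']
      show ψ (Ideal.Quotient.mk (Ideal.span {p}) (X i) ⊗ₜ[k] (1 : M)) = _
      rw [Algebra.TensorProduct.lift_tmul, map_one, mul_one]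
      show Ideal.Quotient.mk I (MvPolynomial.map _ (X i)) = _
      rw [MvPolynomial.map_X]
  rw [← Ideal.Quotient.eq_zero_iff_mem, ← hψ, RingHom.comp_apply, ha, map_zero]

theorem eval_tensor_map {M : Type u} [CommRing M] [Algebra k M] (p : MvPolynomial σ k) :
    eval₂Hom (Algebra.TensorProduct.includeRight : M →ₐ[k] (MvPolynomial σ k ⧸ Ideal.span {p}) ⊗[k] M).toRingHom
      (fun i => Ideal.Quotient.mk (Ideal.span {p}) (X i) ⊗ₜ[k] (1 : M)) (MvPolynomial.map (algebraMap k M) p) = 0 := by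
  have h : ∀ q : MvPolynomial σ k,
      eval₂Hom (Algebra.TensorProduct.includeRight : M →ₐ[k] (MvPolynomial σ k ⧸ Ideal.span {p}) ⊗[k] M).toRingHom
        (fun i => Ideal.Quotient.mk (Ideal.span {p}) (X i) ⊗ₜ[k] (1 : M)) (MvPolynomial.map (algebraMap k M) q) =
        Ideal.Quotient.mk (Ideal.span {p}) q ⊗ₜ[k] (1 : M) := fun q => by
    induction q using MvPolynomial.induction_on with
    | C r =>
      rw [MvPolynomial.map_C, eval₂Hom_C]
      show (1 : MvPolynomial σ k ⧸ Ideal.span {p}) ⊗ₜ[k] algebraMap k M r = _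
      rw [Algebra.algebraMap_eq_smul_one, TensorProduct.tmul_smul, TensorProduct.smul_tmul', ← Algebra.algebraMap_eq_smul_one]
      rfl
    | add a b ha hb => rw [map_add, map_add, ha, hb, map_add, TensorProduct.add_tmul]
    | mul_X a i ha => rw [map_mul, map_mul, ha, MvPolynomial.map_X, eval₂Hom_X', Algebra.TensorProduct.tmul_mul_tmul,
        one_mul, map_mul]
  rw [h, Ideal.Quotient.eq_zero_iff_mem.2 (Ideal.mem_span_singleton_self p), TensorProduct.zero_tmul]

/-- An irreducible polynomial over an algebraically closed field stays prime. -/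
theorem prime_toM_kt [IsAlgClosed k] {p : MvPolynomial σ k} (hp : Irreducible p) :
    Prime (toM σ B (kt k σ B p)) := by
  have hp0 : Prime p := hp.prime
  haveI : (Ideal.span {p}).IsPrime := (Ideal.span_singleton_prime hp0.ne_zero).2 hp0
  haveI : IsDomain ((MvPolynomial σ k ⧸ Ideal.span {p}) ⊗[k] FractionRing B) := GeomIrr.isDomain_tensor _ _
  have he : toM σ B (kt k σ B p) = MvPolynomial.map (algebraMap k (FractionRing B)) p := by
    simp only [toM, kt, MvPolynomial.map_map]
    rw [IsScalarTower.algebraMap_eq k B (FractionRing B)]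
  refine (Ideal.span_singleton_prime ?_).1 ?_
  · exact (map_ne_zero_iff _ (toM_injective σ B)).2 ((map_ne_zero_iff _ (kt_injective k σ B)).2 hp0.ne_zero)
  · rw [he]
    have hker : Ideal.span {MvPolynomial.map (algebraMap k (FractionRing B)) p} = RingHom.ker (eval₂Hom
        (Algebra.TensorProduct.includeRight :
          FractionRing B →ₐ[k] (MvPolynomial σ k ⧸ Ideal.span {p}) ⊗[k] FractionRing B).toRingHom
        (fun i => Ideal.Quotient.mk (Ideal.span {p}) (X i) ⊗ₜ[k] (1 : FractionRing B))) := by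
      refine le_antisymm ((Ideal.span_singleton_le_iff_mem _).2 (RingHom.mem_ker.2 (eval_tensor_map k σ p))) fun a ha => ?_
      exact eq_zero_of_tensor k σ p _ (Ideal.mem_span_singleton_self _) (RingHom.mem_ker.1 ha)
    rw [hker]
    exact RingHom.ker_isPrime _

/-- A prime polynomial over the fraction field dividing no polynomial over the base field. -/
def IsMixed (π : MvPolynomial σ (FractionRing B)) : Prop :=
  Prime π ∧ ∀ q : MvPolynomial σ k, q ≠ 0 → ¬ π ∣ toM σ B (kt k σ B q)

variable [IsAlgClosed k] [Finite σ]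

theorem associated_kt {π : MvPolynomial σ (FractionRing B)} (hπ : Prime π) {q : MvPolynomial σ k}
    (h : π ∣ toM σ B (kt k σ B q)) (hq : q ≠ 0) : ∃ p : MvPolynomial σ k, Associated π (toM σ B (kt k σ B p)) := by
  induction q using UniqueFactorizationMonoid.induction_on_prime with
  | h₁ => exact absurd rfl hq
  | h₂ x hx => exact absurd (isUnit_of_dvd_unit h ((hx.map (kt k σ B)).map (toM σ B))) hπ.not_isUnit
  | h₃ a p ha hp ih =>
    rw [map_mul, map_mul] at h
    rcases hπ.dvd_or_dvd h with h | h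
    · exact ⟨p, hπ.associated_of_dvd (prime_toM_kt k σ B hp.irreducible) h⟩
    · exact ih h ha

/-- A polynomial without mixed prime factors comes from the base field up to constants. -/
theorem exists_eq_kt {a : MvPolynomial σ (FractionRing B)} (ha : a ≠ 0)
    (h : ∀ π, IsMixed k σ B π → ¬ π ∣ a) :
    ∃ (m : FractionRing B) (q : MvPolynomial σ k), m ≠ 0 ∧ q ≠ 0 ∧ a = C m * toM σ B (kt k σ B q) := by
  induction a using UniqueFactorizationMonoid.induction_on_prime with
  | h₁ => exact absurd rfl ha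
  | h₂ x hx =>
    obtain ⟨m, hm, rfl⟩ := exists_C_eq σ B hx
    exact ⟨m, 1, hm, one_ne_zero, by simp⟩
  | h₃ a p ha' hp ih =>
    obtain ⟨m, q, hm, hq, rfl⟩ := ih ha' fun π hπ hd => h π hπ (dvd_mul_of_dvd_right hd p)
    by_cases hp' : IsMixed k σ B p
    · exact absurd (dvd_mul_right p _) (h p hp')
    obtain ⟨q', hq', hd⟩ : ∃ q' : MvPolynomial σ k, q' ≠ 0 ∧ p ∣ toM σ B (kt k σ B q') := by
      by_contra hc
      exact hp' ⟨hp, fun q' hq' hd => hc ⟨q', hq', hd⟩⟩
    obtain ⟨p₀, u, hu⟩ := associated_kt k σ B hp hd hq'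
    obtain ⟨m', hm', hm''⟩ := exists_C_eq σ B (u⁻¹).isUnit
    have hp₀ : p₀ ≠ 0 := by
      rintro rfl
      rw [map_zero, map_zero] at hu
      exact hp.ne_zero ((Units.mul_left_eq_zero u).1 hu)
    refine ⟨m' * m, p₀ * q, mul_ne_zero hm' hm, mul_ne_zero hp₀ hq, ?_⟩
    have hpe : p = toM σ B (kt k σ B p₀) * C m' := by rw [← hm'', ← hu, Units.mul_inv_cancel_right]
    rw [hpe, map_mul (kt k σ B), map_mul (toM σ B), C_mul]
    ring

omit [IsAlgClosed k] [Finite σ] in
/-- The contraction of a principal prime. -/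
theorem mem_comap_span {π : MvPolynomial σ (FractionRing B)} {a : MvPolynomial σ B} :
    a ∈ (Ideal.span {π}).comap (toM σ B) ↔ π ∣ toM σ B a := by
  rw [Ideal.mem_comap, Ideal.mem_span_singleton]

omit [IsAlgClosed k] in
theorem exists_prime_mem {p₀ : Ideal (MvPolynomial σ B)} [p₀.IsPrime] (hB : ∀ b : B, C b ∈ p₀ → b = 0)
    {a : MvPolynomial σ B} (ha : a ∈ p₀) (ha0 : a ≠ 0) :
    ∃ π₀ : MvPolynomial σ B, π₀ ∈ p₀ ∧ Prime (toM σ B π₀) ∧ (Ideal.span {toM σ B π₀}).comap (toM σ B) ≤ p₀ := by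
  suffices H : ∀ c : MvPolynomial σ (FractionRing B), c ≠ 0 → ∀ a ∈ p₀, Associated c (toM σ B a) →
      ∃ π₀ : MvPolynomial σ B, π₀ ∈ p₀ ∧ Prime (toM σ B π₀) from by
    obtain ⟨π₀, h1, h2⟩ := H _ ((map_ne_zero_iff _ (toM_injective σ B)).2 ha0) a ha (Associated.refl _)
    refine ⟨π₀, h1, h2, fun x hx => ?_⟩
    obtain ⟨c, hc⟩ := (mem_comap_span σ B).1 hx
    obtain ⟨d, c₀, hd, hc₀⟩ := exists_denom σ B c
    have he : C d * x = π₀ * c₀ := toM_injective σ B (by rw [map_mul, map_mul, hc, hc₀]; ring)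
    exact ((‹p₀.IsPrime›).mem_or_mem (he ▸ p₀.mul_mem_right _ h1)).resolve_left fun h => hd (hB d h)
  intro c
  induction c using UniqueFactorizationMonoid.induction_on_prime with
  | h₁ => exact fun h => absurd rfl h
  | h₂ x hx =>
    intro _ a ha hax
    obtain ⟨m, hm, hax⟩ := exists_C_eq σ B (hax.isUnit hx)
    have h' : a = C (coeff 0 a) := by
      ext d
      classical
      rw [coeff_C]
      have := congrArg (coeff d) hax
      simp only [toM, coeff_map, coeff_C] at this
      split_ifs with hd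
      · rw [hd]
      · rw [if_neg hd] at this
        exact (map_eq_zero_iff _ (IsFractionRing.injective B _)).1 this
    have h0 : coeff 0 a = 0 := hB _ (h' ▸ ha)
    rw [h0, map_zero] at h'
    rw [h', map_zero] at hax
    exact absurd hax.symm (fun h => hm (by simpa using h))
  | h₃ c p hc hp ih =>
    intro _ a ha hac
    obtain ⟨w, hw⟩ := hac
    obtain ⟨d, p₀', hd, hp₀⟩ := exists_denom σ B p
    obtain ⟨e, c₀, he, hc₀⟩ := exists_denom σ B (c * w)
    have hac : toM σ B a = p * (c * w) := by rw [← hw]; ring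
    have heq : C d * C e * a = p₀' * c₀ := toM_injective σ B (by rw [map_mul, map_mul, map_mul, hac, hp₀, hc₀]; ring)
    rcases (‹p₀.IsPrime›).mem_or_mem (heq ▸ p₀.mul_mem_left _ ha) with h | h
    · refine ⟨p₀', h, ?_⟩
      rw [hp₀]
      exact (associated_unit_mul_left p _ (isUnit_toM_C σ B hd)).symm.prime hp
    · obtain ⟨π₀, h1, h2⟩ := ih hc c₀ h (by
        rw [hc₀]
        exact (associated_mul_unit_right c _ w.isUnit).trans (associated_unit_mul_right _ _ (isUnit_toM_C σ B he)))
      exact ⟨π₀, h1, h2⟩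

omit [IsAlgClosed k] in
/-- The contraction of a principal prime is minimal among the nonzero primes. -/
theorem eq_comap_span {π : MvPolynomial σ (FractionRing B)} (hπ : Prime π) {q : Ideal (MvPolynomial σ B)}
    [q.IsPrime] (hq0 : q ≠ ⊥) (hq : q ≤ (Ideal.span {π}).comap (toM σ B)) :
    q = (Ideal.span {π}).comap (toM σ B) := by
  refine le_antisymm hq ?_
  obtain ⟨a, ha, ha0⟩ := q.exists_mem_ne_zero_of_ne_bot hq0
  have hB : ∀ b : B, C b ∈ q → b = 0 := fun b hb => by
    by_contra hb0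
    exact hπ.not_isUnit (isUnit_of_dvd_unit ((mem_comap_span σ B).1 (hq hb)) (isUnit_toM_C σ B hb0))
  obtain ⟨π₀, h1, h2, h3⟩ := exists_prime_mem σ B hB ha ha0
  have hass := hπ.associated_of_dvd h2 ((mem_comap_span σ B).1 (hq h1))
  rwa [Ideal.span_singleton_eq_span_singleton.2 hass]

section Stalk

variable {O : Type u} [CommRing O] [Algebra (MvPolynomial σ B) O] {π₀ : MvPolynomial σ B}
  (hπ : Prime (toM σ B π₀)) (p : Ideal (MvPolynomial σ B)) [p.IsPrime] [IsLocalization.AtPrime O p]
  (hp : p = (Ideal.span {toM σ B π₀}).comap (toM σ B))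

include hπ hp

omit [IsAlgClosed k] [Finite σ] in
theorem isUnit_algebraMap {a : MvPolynomial σ B} (ha : ¬ toM σ B π₀ ∣ toM σ B a) :
    IsUnit (algebraMap (MvPolynomial σ B) O a) :=
  IsLocalization.map_units O (⟨a, fun h => ha ((mem_comap_span σ B).1 (hp ▸ h))⟩ : p.primeCompl)

omit [IsAlgClosed k] [Finite σ] in
theorem maximalIdeal_eq [IsLocalRing O] :
    IsLocalRing.maximalIdeal O = Ideal.span {algebraMap (MvPolynomial σ B) O π₀} := by
  refine le_antisymm ?_ ((Ideal.span_singleton_le_iff_mem _).2 ?_)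
  · rw [← IsLocalization.AtPrime.map_eq_maximalIdeal p O, Ideal.map_le_iff_le_comap]
    intro x hx
    obtain ⟨c, hc⟩ := (mem_comap_span σ B).1 (hp ▸ hx)
    obtain ⟨d, c₀, hd, hc₀⟩ := exists_denom σ B c
    have he : C d * x = π₀ * c₀ := toM_injective σ B (by rw [map_mul, map_mul, hc, hc₀]; ring)
    have hu : IsUnit (algebraMap (MvPolynomial σ B) O (C d)) := isUnit_algebraMap σ B hπ p hp fun h =>
      hπ.not_isUnit (isUnit_of_dvd_unit h (isUnit_toM_C σ B hd))
    rw [Ideal.mem_comap, Ideal.mem_span_singleton, ← hu.dvd_mul_left, ← map_mul, he, map_mul]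
    exact dvd_mul_right _ _
  · rw [← IsLocalization.AtPrime.map_eq_maximalIdeal p O]
    exact Ideal.mem_map_of_mem _ (hp ▸ (mem_comap_span σ B).2 dvd_rfl)

omit [IsAlgClosed k] in
theorem exists_pow_unit {a : MvPolynomial σ B} (ha : a ≠ 0) :
    ∃ (e : ℕ) (w : O), IsUnit w ∧ algebraMap (MvPolynomial σ B) O a = algebraMap (MvPolynomial σ B) O π₀ ^ e * w ∧
      (e = 0 → ¬ toM σ B π₀ ∣ toM σ B a) := by
  obtain ⟨e, a', ha', he⟩ := WfDvdMonoid.max_power_factor ((map_ne_zero_iff _ (toM_injective σ B)).2 ha) hπ.irreducible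
  obtain ⟨d, c₀, hd, hc₀⟩ := exists_denom σ B a'
  have hu : IsUnit (algebraMap (MvPolynomial σ B) O (C d)) := isUnit_algebraMap σ B hπ p hp fun h =>
    hπ.not_isUnit (isUnit_of_dvd_unit h (isUnit_toM_C σ B hd))
  have h' : C d * a = π₀ ^ e * c₀ := toM_injective σ B (by rw [map_mul, map_mul, map_pow, he, hc₀]; ring)
  have hc : IsUnit (algebraMap (MvPolynomial σ B) O c₀) := isUnit_algebraMap σ B hπ p hp fun h => by
    rw [hc₀] at h
    exact ha' ((isUnit_toM_C σ B hd).dvd_mul_left.1 h)
  refine ⟨e, ↑hu.unit⁻¹ * algebraMap (MvPolynomial σ B) O c₀, (Units.isUnit _).mul hc, ?_, fun h0 => ?_⟩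
  · rw [mul_left_comm, ← map_pow, ← map_mul, ← h', map_mul]
    exact (Units.inv_mul_cancel_left hu.unit _).symm
  · rw [he, h0, pow_zero, one_mul]; exact ha'

end Stalk

end Groth.Agent.ClProd26
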