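import Groth.Agent.Lib.ClProd26.Spec
import Mathlib.AlgebraicGeometry.AffineSpace
import Mathlib.AlgebraicGeometry.Pullbacks
import Mathlib.AlgebraicGeometry.PullbackCarrier

/-! # A chart of a product with a rational variety -/

set_option autoImplicit false
universe u

set_option backward.isDefEq.respectTransparency.types false
set_option backward.isDefEq.respectTransparency false

open CategoryTheory CategoryTheory.Limits AlgebraicGeometry MvPolynomial
open scoped TensorProduct

namespace Groth.Agent.ClProd26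

variable {k : Type u} [Field k]

/-- A rational scheme contains a basic open piece of affine space. -/
theorem exists_affine_chart {X : Scheme.{u}} (a : X ⟶ Spec (CommRingCat.of k)) {σ : Type u} (U : X.Opens)
    (V : (𝔸(σ; Spec (CommRingCat.of k))).Opens) (e : (U : Scheme.{u}) ≅ (V : Scheme.{u}))
    (hU : (U : Set X).Nonempty)
    (he : e.hom ≫ V.ι ≫ (𝔸(σ; Spec (CommRingCat.of k)) ↘ Spec (CommRingCat.of k)) = U.ι ≫ a) :
    ∃ g : MvPolynomial σ k, g ≠ 0 ∧ ∃ ιA : Spec (CommRingCat.of (Localization.Away g)) ⟶ X, IsOpenImmersion ιA ∧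
      ιA ≫ a = Spec.map (CommRingCat.ofHom (algebraMap k (Localization.Away g))) := by
  let ε := AffineSpace.SpecIso σ (CommRingCat.of k)
  let W : (Spec (CommRingCat.of (MvPolynomial σ k))).Opens := ε.inv ⁻¹ᵁ V
  obtain ⟨x, hx⟩ := hU
  have hW : ε.hom (V.ι (e.hom ⟨x, hx⟩)) ∈ W := by
    show ε.inv (ε.hom _) ∈ V
    rw [← Scheme.Hom.comp_apply ε.hom ε.inv, ε.hom_inv_id]
    exact (e.hom ⟨x, hx⟩).2
  obtain ⟨_, ⟨g, rfl⟩, hg, hgW⟩ := PrimeSpectrum.isTopologicalBasis_basic_opens.exists_subset_of_mem_open hW W.isOpen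
  refine ⟨g, fun h0 => by subst h0; simp at hg, ?_⟩
  let ψ : Spec (CommRingCat.of (Localization.Away g)) ⟶ Spec (CommRingCat.of (MvPolynomial σ k)) :=
    Spec.map (CommRingCat.ofHom (algebraMap (MvPolynomial σ k) (Localization.Away g)))
  haveI : IsOpenImmersion ψ := IsOpenImmersion.of_isLocalization g
  have hr : Set.range (ψ ≫ ε.inv) ⊆ Set.range V.ι := by
    rintro _ ⟨w, rfl⟩
    rw [Scheme.Opens.range_ι]
    have h1 : ψ w ∈ (PrimeSpectrum.basicOpen g : Set (PrimeSpectrum (MvPolynomial σ k))) := by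
      have : ψ w ∈ Set.range (PrimeSpectrum.comap (algebraMap (MvPolynomial σ k) (Localization.Away g))) := ⟨w, rfl⟩
      rwa [PrimeSpectrum.localization_away_comap_range (Localization.Away g) g] at this
    exact hgW h1
  let l := IsOpenImmersion.lift V.ι (ψ ≫ ε.inv) hr
  haveI : IsOpenImmersion l := by
    haveI : IsOpenImmersion (l ≫ V.ι) := by rw [IsOpenImmersion.lift_fac]; infer_instance
    exact IsOpenImmersion.of_comp l V.ι
  refine ⟨l ≫ e.inv ≫ U.ι, inferInstance, ?_⟩
  rw [Category.assoc, Category.assoc, ← he, e.inv_hom_id_assoc, IsOpenImmersion.lift_fac_assoc, Category.assoc,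
    AffineSpace.SpecIso_inv_over, ← Spec.map_comp]
  rfl

variable {σ : Type u} (g : MvPolynomial σ k) (B : Type u) [CommRing B] [Algebra k B]

/-- From `B[σ]` to `k[σ]_g ⊗ B`. -/
noncomputable def chartHom : MvPolynomial σ B →+* Localization.Away g ⊗[k] B :=
  eval₂Hom (Algebra.TensorProduct.includeRight : B →ₐ[k] Localization.Away g ⊗[k] B).toRingHom
    fun i => algebraMap (MvPolynomial σ k) (Localization.Away g) (X i) ⊗ₜ[k] (1 : B)

theorem chartHom_kt (q : MvPolynomial σ k) :
    chartHom g B (kt k σ B q) = algebraMap (MvPolynomial σ k) (Localization.Away g) q ⊗ₜ[k] (1 : B) := by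
  induction q using MvPolynomial.induction_on with
  | C r =>
    rw [kt, MvPolynomial.map_C, chartHom, eval₂Hom_C]
    show (1 : Localization.Away g) ⊗ₜ[k] algebraMap k B r = _
    rw [Algebra.algebraMap_eq_smul_one, TensorProduct.tmul_smul, TensorProduct.smul_tmul', ← Algebra.algebraMap_eq_smul_one,
      IsScalarTower.algebraMap_apply k (MvPolynomial σ k) (Localization.Away g)]
    rfl
  | add a b ha hb => rw [map_add, map_add, ha, hb, map_add, TensorProduct.add_tmul]
  | mul_X a i ha =>
    rw [map_mul, map_mul, ha]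
    simp only [kt, MvPolynomial.map_X, chartHom, eval₂Hom_X', Algebra.TensorProduct.tmul_mul_tmul, one_mul, map_mul]

theorem chartHom_C (b : B) : chartHom g B (C b) = (1 : Localization.Away g) ⊗ₜ[k] b := by
  rw [chartHom, eval₂Hom_C]; rfl

theorem chartHom_injective (hg : g ≠ 0) : Function.Injective (chartHom g B) := by
  let f : MvPolynomial σ k →ₐ[k] Localization.Away g := IsScalarTower.toAlgHom k _ _
  have hf : Function.Injective f := IsLocalization.injective _ (M := Submonoid.powers g)
    (powers_le_nonZeroDivisors_of_noZeroDivisors hg)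
  let μ := Algebra.TensorProduct.map (AlgHom.id k B) f
  have h1 : Function.Injective μ := Module.Flat.lTensor_preserves_injective_linearMap f.toLinearMap hf
  let c := Algebra.TensorProduct.comm k B (Localization.Away g)
  let ρ : MvPolynomial σ B →+* Localization.Away g ⊗[k] B :=
    c.toRingEquiv.toRingHom.comp (μ.toRingHom.comp
      (MvPolynomial.algebraTensorAlgEquiv (σ := σ) k B).symm.toRingEquiv.toRingHom)
  have h2 : chartHom g B = ρ := by
    refine MvPolynomial.ringHom_ext (fun b => ?_) fun i => ?_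
    · have he : (MvPolynomial.algebraTensorAlgEquiv (σ := σ) k B).symm (C b) = b ⊗ₜ[k] (1 : MvPolynomial σ k) :=
        (MvPolynomial.algebraTensorAlgEquiv (σ := σ) k B).symm.commutes b
      rw [chartHom_C]
      show _ = c (μ ((MvPolynomial.algebraTensorAlgEquiv (σ := σ) k B).symm (C b)))
      rw [he, Algebra.TensorProduct.map_tmul, Algebra.TensorProduct.comm_tmul, map_one]
      rfl
    · rw [chartHom, eval₂Hom_X']
      show _ = c (μ ((MvPolynomial.algebraTensorAlgEquiv (σ := σ) k B).symm (X i)))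
      rw [MvPolynomial.algebraTensorAlgEquiv_symm_X, Algebra.TensorProduct.map_tmul, Algebra.TensorProduct.comm_tmul]
      rfl
  rw [h2]
  exact (c.injective.comp h1).comp (MvPolynomial.algebraTensorAlgEquiv (σ := σ) k B).symm.injective

theorem chartHom_surj (x : Localization.Away g ⊗[k] B) :
    ∃ (n : ℕ) (a : MvPolynomial σ B), chartHom g B a = x * chartHom g B (kt k σ B g ^ n) := by
  induction x using TensorProduct.induction_on with
  | zero => exact ⟨0, 0, by simp⟩
  | tmul c b =>
    obtain ⟨q, ⟨_, n, rfl⟩, rfl⟩ := IsLocalization.exists_mk'_eq (Submonoid.powers g) c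
    refine ⟨n, kt k σ B q * C b, ?_⟩
    rw [map_mul, chartHom_kt, chartHom_C, ← map_pow (kt k σ B), chartHom_kt, Algebra.TensorProduct.tmul_mul_tmul,
      Algebra.TensorProduct.tmul_mul_tmul, mul_one, one_mul, mul_one]
    exact congrArg (· ⊗ₜ[k] b) (IsLocalization.mk'_spec (Localization.Away g) q _).symm
  | add x y hx hy =>
    obtain ⟨n, a, ha⟩ := hx
    obtain ⟨m, b, hb⟩ := hy
    refine ⟨n + m, a * kt k σ B g ^ m + b * kt k σ B g ^ n, ?_⟩
    rw [map_add, map_mul, map_mul, ha, hb, pow_add, map_mul]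
    ring

theorem isLocalization_chartHom (hg : g ≠ 0) :
    @IsLocalization.Away (MvPolynomial σ B) _ (kt k σ B g) (Localization.Away g ⊗[k] B) _ (chartHom g B).toAlgebra := by
  letI := (chartHom g B).toAlgebra
  refine (isLocalization_iff _ _).2 ⟨?_, fun x => ?_, fun {a b} h => ?_⟩
  · rintro ⟨_, n, rfl⟩
    show IsUnit (chartHom g B (kt k σ B g ^ n))
    rw [map_pow, chartHom_kt]
    exact ((IsLocalization.Away.algebraMap_isUnit (S := Localization.Away g) g).map
      (Algebra.TensorProduct.includeLeft : Localization.Away g →ₐ[k] Localization.Away g ⊗[k] B)).pow n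
  · obtain ⟨n, a, ha⟩ := chartHom_surj g B x
    exact ⟨⟨a, ⟨_, n, rfl⟩⟩, ha.symm⟩
  · exact ⟨1, by rw [chartHom_injective g B hg h]⟩

end Groth.Agent.ClProd26
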