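import Groth.Agent.Lib.ClProd26.Alg
import Groth.Agent.Lib.Cyc26.Frac
import Groth.Agent.Lib.Cyc26.C1Key
import Mathlib.AlgebraicGeometry.AffineScheme

/-! # Principal divisors at the mixed points of an open piece of affine space over an affine base -/

set_option autoImplicit false
universe u

set_option backward.isDefEq.respectTransparency.types false

open CategoryTheory AlgebraicGeometry MvPolynomial

namespace Groth.Agent.ClProd26

variable {k : Type u} [Field k] {σ : Type u} {B : Type u} [CommRing B] [IsDomain B] [Algebra k B]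
  {R : Type u} [CommRing R] [IsDomain R] [Algebra (MvPolynomial σ B) R] {g : MvPolynomial σ k}
  [IsLocalization.Away (kt k σ B g) R]

variable (k σ B R) in
/-- A point lying over neither a nonzero constant nor a nonzero scalar polynomial. -/
def IsMixedPt (z : ↥(Spec (CommRingCat.of R))) : Prop :=
  (∀ b : B, algebraMap (MvPolynomial σ B) R (C b) ∈ z.asIdeal → b = 0) ∧
    ∀ q : MvPolynomial σ k, algebraMap (MvPolynomial σ B) R (kt k σ B q) ∈ z.asIdeal → q = 0

variable (σ B R) in
/-- Polynomials as germs. -/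
noncomputable def toGerm (z : ↥(Spec (CommRingCat.of R))) :
    MvPolynomial σ B →+* (Spec (CommRingCat.of R)).presheaf.stalk z :=
  ((Scheme.ΓSpecIso (CommRingCat.of R)).inv ≫ (Spec (CommRingCat.of R)).presheaf.germ ⊤ z trivial).hom.comp
    (algebraMap (MvPolynomial σ B) R)

variable (σ B R) in
/-- Polynomials as rational functions. -/
noncomputable def toFn : MvPolynomial σ B →+*
    (Spec (CommRingCat.of R)).residueField (genericPoint (Spec (CommRingCat.of R))) :=
  ((Spec (CommRingCat.of R)).residue _).hom.comp (toGerm σ B R _)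

omit [IsDomain B] in
theorem specMap_toGerm {z : ↥(Spec (CommRingCat.of R))} (h : genericPoint (Spec (CommRingCat.of R)) ⤳ z)
    (a : MvPolynomial σ B) :
    Cyc.specMap z _ h (toGerm σ B R z a) = toFn σ B R a :=
  congrArg ((Spec (CommRingCat.of R)).residue _)
    (TopCat.Presheaf.germ_stalkSpecializes_apply (Spec (CommRingCat.of R)).presheaf (U := ⊤) trivial h _)

omit [IsDomain B] [Algebra k B] [IsDomain R] in
theorem isLocalization_toGerm {M : Submonoid (MvPolynomial σ B)} [IsLocalization M R]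
    (z : ↥(Spec (CommRingCat.of R))) :
    @IsLocalization.AtPrime _ _ ((Spec (CommRingCat.of R)).presheaf.stalk z) _ (toGerm σ B R z).toAlgebra
      (z.asIdeal.comap (algebraMap (MvPolynomial σ B) R)) inferInstance := by
  letI := (toGerm σ B R z).toAlgebra
  haveI : IsLocalization.AtPrime (Localization.AtPrime z.asIdeal) (z.asIdeal.comap (algebraMap (MvPolynomial σ B) R)) :=
    IsLocalization.isLocalization_isLocalization_atPrime_isLocalization M (Localization.AtPrime z.asIdeal) z.asIdeal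
  let e : Localization.AtPrime z.asIdeal ≃ₐ[MvPolynomial σ B] (Spec (CommRingCat.of R)).presheaf.stalk z :=
    AlgEquiv.ofRingEquiv (f := (Spec.stalkIso (CommRingCat.of R) z).symm.commRingCatIsoToRingEquiv) fun a => by
      rw [IsScalarTower.algebraMap_apply (MvPolynomial σ B) R (Localization.AtPrime z.asIdeal)]
      exact ConcreteCategory.congr_hom (Spec.algebraMap_stalkIso_inv z) _
  exact IsLocalization.isLocalization_of_algEquiv _ e

omit [IsDomain B] in
theorem toFn_injective (hg : g ≠ 0) [IsDomain B] : Function.Injective (toFn σ B R) := by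
  refine (injective_iff_map_eq_zero _).2 fun a ha => ?_
  have hinj : Function.Injective (algebraMap (MvPolynomial σ B) R) :=
    IsLocalization.injective R (M := Submonoid.powers (kt k σ B g))
      (powers_le_nonZeroDivisors_of_noZeroDivisors ((map_ne_zero_iff _ (kt_injective k σ B)).2 hg))
  have h0 : (Spec (CommRingCat.of R)).presheaf.germ ⊤ (genericPoint _) trivial
      ((Scheme.ΓSpecIso (CommRingCat.of R)).inv (algebraMap (MvPolynomial σ B) R a)) = 0 := by
    have h1 := (Cyc26.residue_eq_zero _ _).1 ha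
    have hf : IsField ((Spec (CommRingCat.of R)).presheaf.stalk (genericPoint _)) :=
      isField_stalk_of_closure_mem_irreducibleComponents _ _ (by
        rw [irreducibleComponents_eq_singleton]; exact genericPoint_closure _)
    rw [IsLocalRing.isField_iff_maximalIdeal_eq.1 hf, Ideal.mem_bot] at h1
    exact h1
  haveI : Nonempty (⊤ : (Spec (CommRingCat.of R)).Opens) := ⟨⟨genericPoint _, trivial⟩⟩
  have h2 := germ_injective_of_isIntegral _ (genericPoint (Spec (CommRingCat.of R))) (U := ⊤) trivial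
    (h0.trans (map_zero _).symm)
  refine hinj ((Scheme.ΓSpecIso (CommRingCat.of R)).commRingCatIsoToRingEquiv.symm.injective ?_)
  rw [map_zero]
  exact h2.trans (map_zero _).symm

theorem exists_div (M : Submonoid (MvPolynomial σ B)) [IsLocalization M R] (φ : (Spec (CommRingCat.of R)).residueField (genericPoint (Spec (CommRingCat.of R)))) :
    ∃ a b, φ = toFn σ B R a / toFn σ B R b := by
  let z := genericPoint (Spec (CommRingCat.of R))
  letI := (toGerm σ B R z).toAlgebra
  haveI := isLocalization_toGerm (M := M) (R := R) z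
  obtain ⟨x, rfl⟩ := (Spec (CommRingCat.of R)).residue_surjective z φ
  obtain ⟨a, s, hx⟩ := IsLocalization.exists_mk'_eq (z.asIdeal.comap (algebraMap (MvPolynomial σ B) R)).primeCompl x
  refine ⟨a, s, ?_⟩
  have hsu := (IsLocalization.map_units ((Spec (CommRingCat.of R)).presheaf.stalk z) s).map
    ((Spec (CommRingCat.of R)).residue z).hom
  refine (eq_div_iff hsu.ne_zero).2 ?_
  rw [← hx]
  exact ((map_mul _ _ _).symm.trans (congrArg _ (IsLocalization.mk'_spec _ _ _)))

section Order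

variable {δ : ↥(Spec (CommRingCat.of R)) → ℤ} (hd : Cyc.IsDimFun (Spec (CommRingCat.of R)) δ) (hg : g ≠ 0)

/-- The points of codimension one lying over nothing. -/
def IsMixedDiv (k σ B R : Type u) [Field k] [CommRing B] [Algebra k B] [CommRing R] [IsDomain R]
    [Algebra (MvPolynomial σ B) R] (δ : ↥(Spec (CommRingCat.of R)) → ℤ) (z : ↥(Spec (CommRingCat.of R))) : Prop :=
  IsMixedPt k σ B R z ∧ δ z + 1 = δ (genericPoint (Spec (CommRingCat.of R)))

omit [IsDomain B] [IsDomain R] in
theorem comap_injective (M : Submonoid (MvPolynomial σ B)) [IsLocalization M R] {w z : ↥(Spec (CommRingCat.of R))}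
    (h : w.asIdeal.comap (algebraMap (MvPolynomial σ B) R) = z.asIdeal.comap (algebraMap (MvPolynomial σ B) R)) :
    w = z := by
  refine PrimeSpectrum.ext ?_
  have h1 := IsLocalization.map_comap M R w.asIdeal
  have h2 := IsLocalization.map_comap M R z.asIdeal
  exact h1.symm.trans ((congrArg _ h).trans h2)

omit [IsDomain B] in
theorem comap_generic :
    (genericPoint (Spec (CommRingCat.of R))).asIdeal = ⊥ := by
  have h := genericPoint_specializes (α := ↥(Spec (CommRingCat.of R))) ⟨⊥, Ideal.isPrime_bot⟩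
  exact le_bot_iff.1 ((PrimeSpectrum.le_iff_specializes _ _).2 h)

variable [Finite σ]

include hd in
theorem exists_gen [IsAlgClosed k] (hg : g ≠ 0) {z : ↥(Spec (CommRingCat.of R))} (hz : IsMixedDiv k σ B R δ z) :
    ∃ π₀ : MvPolynomial σ B, Prime (toM σ B π₀) ∧
      z.asIdeal.comap (algebraMap (MvPolynomial σ B) R) = (Ideal.span {toM σ B π₀}).comap (toM σ B) := by
  have hinj : Function.Injective (algebraMap (MvPolynomial σ B) R) :=
    IsLocalization.injective R (M := Submonoid.powers (kt k σ B g))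
      (powers_le_nonZeroDivisors_of_noZeroDivisors ((map_ne_zero_iff _ (kt_injective k σ B)).2 hg))
  have hne : genericPoint (Spec (CommRingCat.of R)) ≠ z := fun h => by
    have := hz.2; rw [← h] at this; omega
  have hp0 : z.asIdeal.comap (algebraMap (MvPolynomial σ B) R) ≠ ⊥ := fun h => hne (comap_injective (Submonoid.powers (kt k σ B g)) (by
    rw [comap_generic, Ideal.comap_bot_of_injective _ hinj]; exact h.symm))
  obtain ⟨a, ha, ha0⟩ := Submodule.exists_mem_ne_zero_of_ne_bot hp0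
  obtain ⟨π₀, h1, h2, h3⟩ := exists_prime_mem σ B (p₀ := z.asIdeal.comap (algebraMap (MvPolynomial σ B) R))
    (fun b hb => hz.1.1 b hb) ha ha0
  refine ⟨π₀, h2, le_antisymm ?_ h3⟩
  haveI hq : ((Ideal.span {toM σ B π₀}).comap (toM σ B)).IsPrime :=
    haveI := (Ideal.span_singleton_prime h2.ne_zero).2 h2
    Ideal.comap_isPrime _ _
  have hdisj : Disjoint (Submonoid.powers (kt k σ B g) : Set (MvPolynomial σ B))
      ((Ideal.span {toM σ B π₀}).comap (toM σ B)) := by
    rw [Set.disjoint_left]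
    rintro _ ⟨n, rfl⟩ hn
    have h := hz.1.2 g (Ideal.IsPrime.mem_of_pow_mem inferInstance n (by
      have := h3 hn
      rw [← map_pow]
      exact this))
    exact hg h
  let q : ↥(Spec (CommRingCat.of R)) :=
    ⟨((Ideal.span {toM σ B π₀}).comap (toM σ B)).map (algebraMap (MvPolynomial σ B) R),
      IsLocalization.isPrime_of_isPrime_disjoint (Submonoid.powers (kt k σ B g)) R _ hq hdisj⟩
  have hqc : q.asIdeal.comap (algebraMap (MvPolynomial σ B) R) = (Ideal.span {toM σ B π₀}).comap (toM σ B) :=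
    IsLocalization.comap_map_of_isPrime_disjoint (Submonoid.powers (kt k σ B g)) R hq hdisj
  have hqz : q ⤳ z := (PrimeSpectrum.le_iff_specializes _ _).1 (Ideal.map_le_iff_le_comap.2 h3)
  rcases eq_or_ne q z with rfl | hne'
  · exact hqc.le
  · exfalso
    have hqg : genericPoint (Spec (CommRingCat.of R)) ≠ q := fun h => by
      have h4 : π₀ ∈ (Ideal.span {toM σ B π₀}).comap (toM σ B) := Ideal.mem_comap.2 (Ideal.mem_span_singleton_self _)
      rw [← hqc, ← h, comap_generic, Ideal.mem_comap, Ideal.mem_bot, map_eq_zero_iff _ hinj] at h4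
      exact h2.ne_zero (by rw [h4, map_zero])
    have e1 := (hd _ q (genericPoint_specializes q) hqg).1
    have e2 := (hd q z hqz hne').1
    have := hz.2
    omega

include hd in
theorem exists_point [IsAlgClosed k] (hg : g ≠ 0) {π₀ : MvPolynomial σ B} (hπ : IsMixed k σ B (toM σ B π₀)) :
    ∃ z, IsMixedDiv k σ B R δ z ∧
      z.asIdeal.comap (algebraMap (MvPolynomial σ B) R) = (Ideal.span {toM σ B π₀}).comap (toM σ B) := by
  haveI hq : ((Ideal.span {toM σ B π₀}).comap (toM σ B)).IsPrime :=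
    haveI := (Ideal.span_singleton_prime hπ.1.ne_zero).2 hπ.1
    Ideal.comap_isPrime _ _
  have hdisj : Disjoint (Submonoid.powers (kt k σ B g) : Set (MvPolynomial σ B))
      ((Ideal.span {toM σ B π₀}).comap (toM σ B)) := by
    rw [Set.disjoint_left]
    rintro _ ⟨n, rfl⟩ hn
    have hn' := (mem_comap_span σ B).1 hn
    simp only [← map_pow] at hn'
    exact hπ.2 _ (pow_ne_zero n hg) hn'
  have hinj : Function.Injective (algebraMap (MvPolynomial σ B) R) :=
    IsLocalization.injective R (M := Submonoid.powers (kt k σ B g))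
      (powers_le_nonZeroDivisors_of_noZeroDivisors ((map_ne_zero_iff _ (kt_injective k σ B)).2 hg))
  let z : ↥(Spec (CommRingCat.of R)) :=
    ⟨((Ideal.span {toM σ B π₀}).comap (toM σ B)).map (algebraMap (MvPolynomial σ B) R),
      IsLocalization.isPrime_of_isPrime_disjoint (Submonoid.powers (kt k σ B g)) R _ hq hdisj⟩
  have hzc : z.asIdeal.comap (algebraMap (MvPolynomial σ B) R) = (Ideal.span {toM σ B π₀}).comap (toM σ B) :=
    IsLocalization.comap_map_of_isPrime_disjoint (Submonoid.powers (kt k σ B g)) R hq hdisj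
  refine ⟨z, ⟨⟨fun b hb => ?_, fun q hb => ?_⟩, ?_⟩, hzc⟩
  · rw [← Ideal.mem_comap, hzc, mem_comap_span] at hb
    by_contra hb0
    exact hπ.1.not_isUnit (isUnit_of_dvd_unit hb (isUnit_toM_C σ B hb0))
  · rw [← Ideal.mem_comap, hzc, mem_comap_span] at hb
    by_contra hb0
    exact hπ.2 q hb0 hb
  · have hπ0 : π₀ ∈ z.asIdeal.comap (algebraMap (MvPolynomial σ B) R) := by
      rw [hzc]; exact Ideal.mem_comap.2 (Ideal.mem_span_singleton_self _)
    have hne : genericPoint (Spec (CommRingCat.of R)) ≠ z := fun h => by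
      rw [← h, comap_generic, Ideal.mem_comap, Ideal.mem_bot, map_eq_zero_iff _ hinj] at hπ0
      exact hπ.1.ne_zero (by rw [hπ0, map_zero])
    have h := ((hd _ z (genericPoint_specializes z) hne).2 fun w hw1 hw2 => ?_)
    · omega
    · by_cases hw0 : w.asIdeal = ⊥
      · exact Or.inl (PrimeSpectrum.ext (hw0.trans comap_generic.symm))
      refine Or.inr (comap_injective (Submonoid.powers (kt k σ B g)) ?_)
      rw [hzc]
      refine eq_comap_span σ B hπ.1 (fun h0 => hw0 ?_) ?_
      · refine (IsLocalization.map_comap (Submonoid.powers (kt k σ B g)) R w.asIdeal).symm.trans ?_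
        exact (congrArg _ h0).trans Ideal.map_bot
      · rw [← hzc]
        exact Ideal.comap_mono ((PrimeSpectrum.le_iff_specializes w z).2 hw2)

include hd in
theorem ordAt_toFn [IsLocallyNoetherian (Spec (CommRingCat.of R))] (hg : g ≠ 0) {z : ↥(Spec (CommRingCat.of R))}
    (hz : IsMixedDiv k σ B R δ z) {π₀ : MvPolynomial σ B} (hπ : Prime (toM σ B π₀))
    (hp : z.asIdeal.comap (algebraMap (MvPolynomial σ B) R) = (Ideal.span {toM σ B π₀}).comap (toM σ B))
    {a : MvPolynomial σ B} (ha : a ≠ 0) :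
    ∃ e : ℕ, Cyc.divFun δ (genericPoint (Spec (CommRingCat.of R))) (toFn σ B R a) z = e ∧
      (e = 0 → ¬ toM σ B π₀ ∣ toM σ B a) ∧ (¬ toM σ B π₀ ∣ toM σ B a → e = 0) ∧ (a = π₀ → e = 1) := by
  letI := (toGerm σ B R z).toAlgebra
  haveI := isLocalization_toGerm (M := Submonoid.powers (kt k σ B g)) (R := R) z
  have h := genericPoint_specializes (α := ↥(Spec (CommRingCat.of R))) z
  have hdiv : ∀ φ, Cyc.divFun δ (genericPoint (Spec (CommRingCat.of R))) φ z = Cyc.ordAt z _ h φ := fun φ =>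
    dif_pos ⟨h, hz.2⟩
  have hinjF := toFn_injective (k := k) (σ := σ) (B := B) (R := R) hg
  have hne0 : ∀ {c : MvPolynomial σ B}, c ≠ 0 → toGerm σ B R z c ≠ 0 := fun {c} hc h0 => hc (hinjF (by
    rw [← specMap_toGerm h, h0, map_zero, map_zero]))
  have hmax := maximalIdeal_eq σ B hπ (z.asIdeal.comap (algebraMap (MvPolynomial σ B) R)) hp
    (O := (Spec (CommRingCat.of R)).presheaf.stalk z)
  have hπ1 : Cyc.ordAt z _ h (toFn σ B R π₀) = 1 := by
    rw [← specMap_toGerm h, Cyc26.ordAt_specMap_generic hd h hz.2 (hne0 fun h0 => hπ.ne_zero (by rw [h0, map_zero]))]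
    haveI : (Ideal.span {toGerm σ B R z π₀}).IsMaximal := by
      have : Ideal.span {toGerm σ B R z π₀} = IsLocalRing.maximalIdeal _ := hmax.symm
      rw [this]; exact IsLocalRing.maximalIdeal.isMaximal _
    rw [Module.length_eq_one_iff.2 (isSimpleModule_iff_isCoatom.2 (Ideal.isMaximal_def.1 inferInstance))]
    rfl
  obtain ⟨e, w, hw, hae, he⟩ := exists_pow_unit σ B hπ (z.asIdeal.comap (algebraMap (MvPolynomial σ B) R)) hp
    (O := (Spec (CommRingCat.of R)).presheaf.stalk z) ha
  have hval : Cyc.ordAt z _ h (toFn σ B R a) = e := by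
    have hae' : toFn σ B R a = toFn σ B R π₀ ^ e * Cyc.specMap z _ h w := by
      rw [← specMap_toGerm h, ← specMap_toGerm h, ← map_pow, ← map_mul]
      exact congrArg _ hae
    have hπF : toFn σ B R π₀ ≠ 0 := (map_ne_zero_iff _ hinjF).2 fun h0 => hπ.ne_zero (by rw [h0, map_zero])
    rw [hae']
    unfold Cyc.ordAt
    rw [Cyc26.ordFrac_mul_all (pow_ne_zero _ hπF) (hw.map (Cyc.specMap z _ h)).ne_zero, Cyc26.ordFrac_pow hπF]
    have h1 : CycAlg.ordFrac (Cyc.LocQuot z _ h) ((Spec (CommRingCat.of R)).residueField _) (toFn σ B R π₀) = 1 := hπ1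
    have h2 := Cyc26.ordAt_eq_zero_of_isUnit h hw
    unfold Cyc.ordAt at h2
    rw [h1, h2, mul_one, add_zero]
  refine ⟨e, (hdiv _).trans hval, he, fun hnd => ?_, fun hap => ?_⟩
  · have hu : IsUnit (toGerm σ B R z a) :=
      isUnit_algebraMap σ B hπ (z.asIdeal.comap (algebraMap (MvPolynomial σ B) R)) hp hnd
    have h2 := Cyc26.ordAt_eq_zero_of_isUnit h hu
    rw [specMap_toGerm, hval] at h2
    exact_mod_cast h2
  · subst hap
    rw [hπ1] at hval
    exact_mod_cast hval.symm

omit [Finite σ] in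
theorem exists_div_coprime [Finite σ] (hg : g ≠ 0)
    {φ : (Spec (CommRingCat.of R)).residueField (genericPoint (Spec (CommRingCat.of R)))} (hφ : φ ≠ 0) :
    ∃ a b : MvPolynomial σ B, a ≠ 0 ∧ b ≠ 0 ∧ IsRelPrime (toM σ B a) (toM σ B b) ∧
      φ = toFn σ B R a / toFn σ B R b := by
  have hF := toFn_injective (k := k) (σ := σ) (B := B) (R := R) hg
  obtain ⟨a, b, rfl⟩ := exists_div (Submonoid.powers (kt k σ B g)) φ
  have ha : a ≠ 0 := fun h => hφ (by rw [h, map_zero, zero_div])
  have hb : b ≠ 0 := fun h => hφ (by rw [h, map_zero, div_zero])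
  obtain ⟨a', b', c, hrel, hac, hbc⟩ :=
    UniqueFactorizationMonoid.exists_reduced_factors (toM σ B a) ((map_ne_zero_iff _ (toM_injective σ B)).2 ha)
      (toM σ B b)
  obtain ⟨d₁, a₁, hd₁, ha₁⟩ := exists_denom σ B a'
  obtain ⟨d₂, b₁, hd₂, hb₁⟩ := exists_denom σ B b'
  refine ⟨C d₂ * a₁, C d₁ * b₁, ?_, ?_, ?_, ?_⟩
  · refine mul_ne_zero (by simpa using hd₂) fun h => ?_
    rw [h, map_zero, zero_eq_mul] at ha₁
    rcases ha₁ with h | h
    · exact (isUnit_toM_C σ B hd₁).ne_zero h
    · exact (map_ne_zero_iff _ (toM_injective σ B)).2 ha (by rw [← hac, h, mul_zero])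
  · refine mul_ne_zero (by simpa using hd₁) fun h => ?_
    rw [h, map_zero, zero_eq_mul] at hb₁
    rcases hb₁ with h | h
    · exact (isUnit_toM_C σ B hd₂).ne_zero h
    · exact (map_ne_zero_iff _ (toM_injective σ B)).2 hb (by rw [← hbc, h, mul_zero])
  · rw [map_mul, map_mul, ha₁, hb₁]
    intro x hxa hxb
    refine hrel ?_ ?_
    · exact (isUnit_toM_C σ B hd₁).dvd_mul_left.1 ((isUnit_toM_C σ B hd₂).dvd_mul_left.1 hxa)
    · exact (isUnit_toM_C σ B hd₂).dvd_mul_left.1 ((isUnit_toM_C σ B hd₁).dvd_mul_left.1 hxb)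
  · have hbF : toFn σ B R b ≠ 0 := (map_ne_zero_iff _ hF).2 hb
    have hb'F : toFn σ B R (C d₁ * b₁) ≠ 0 := (map_ne_zero_iff _ hF).2 (mul_ne_zero (by simpa using hd₁) fun h => by
      rw [h, map_zero, zero_eq_mul] at hb₁
      rcases hb₁ with h | h
      · exact (isUnit_toM_C σ B hd₂).ne_zero h
      · exact (map_ne_zero_iff _ (toM_injective σ B)).2 hb (by rw [← hbc, h, mul_zero]))
    rw [div_eq_div_iff hbF hb'F, ← map_mul, ← map_mul]
    congr 1
    refine toM_injective σ B ?_
    rw [map_mul, map_mul, map_mul, map_mul, ha₁, hb₁, ← hac, ← hbc]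
    ring

include hd in
/-- A function without zeros and poles at the mixed divisors comes from the two factors. -/
theorem eq_split_of_div_eq_zero [IsAlgClosed k] [IsLocallyNoetherian (Spec (CommRingCat.of R))] (hg : g ≠ 0)
    {φ : (Spec (CommRingCat.of R)).residueField (genericPoint (Spec (CommRingCat.of R)))} (hφ : φ ≠ 0)
    (h : ∀ z, IsMixedDiv k σ B R δ z → Cyc.divFun δ (genericPoint (Spec (CommRingCat.of R))) φ z = 0) :
    ∃ (q₁ q₂ : MvPolynomial σ k) (b₁ b₂ : B), q₁ ≠ 0 ∧ q₂ ≠ 0 ∧ b₁ ≠ 0 ∧ b₂ ≠ 0 ∧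
      φ = (toFn σ B R (kt k σ B q₁) / toFn σ B R (kt k σ B q₂)) * (toFn σ B R (C b₁) / toFn σ B R (C b₂)) := by
  have hF := toFn_injective (k := k) (σ := σ) (B := B) (R := R) hg
  obtain ⟨a, b, ha, hb, hrel, rfl⟩ := exists_div_coprime (σ := σ) (B := B) hg hφ
  have key : ∀ π, IsMixed k σ B π → ¬ π ∣ toM σ B a ∧ ¬ π ∣ toM σ B b := by
    intro π hπ
    obtain ⟨d, π₀, hd0, hπ₀⟩ := exists_denom σ B π
    have hass : Associated π (toM σ B π₀) := hπ₀ ▸ associated_unit_mul_right _ _ (isUnit_toM_C σ B hd0)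
    have hπ' : IsMixed k σ B (toM σ B π₀) := ⟨hass.prime hπ.1, fun q hq hdv => hπ.2 q hq (hass.dvd_iff_dvd_left.2 hdv)⟩
    obtain ⟨z, hz, hzc⟩ := exists_point (R := R) (g := g) hd hg hπ'
    obtain ⟨e₁, he₁, hz₁, hn₁, -⟩ := ordAt_toFn hd hg hz hπ'.1 hzc ha
    obtain ⟨e₂, he₂, hz₂, hn₂, -⟩ := ordAt_toFn hd hg hz hπ'.1 hzc hb
    have h0 := h z hz
    rw [Cyc26.divFun_div _ z ((map_ne_zero_iff _ hF).2 ha) ((map_ne_zero_iff _ hF).2 hb), he₁, he₂, sub_eq_zero,
      Nat.cast_inj] at h0
    have hor : ¬ toM σ B π₀ ∣ toM σ B a ∨ ¬ toM σ B π₀ ∣ toM σ B b := by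
      by_contra hc
      push Not at hc
      exact hπ'.1.not_isUnit (hrel hc.1 hc.2)
    have he : e₁ = 0 ∧ e₂ = 0 := by
      rcases hor with hh | hh
      · have := hn₁ hh; omega
      · have := hn₂ hh; omega
    exact ⟨fun hdv => hz₁ he.1 (hass.dvd_iff_dvd_left.1 hdv), fun hdv => hz₂ he.2 (hass.dvd_iff_dvd_left.1 hdv)⟩
  obtain ⟨m₁, q₁, hm₁, hq₁, ha'⟩ := exists_eq_kt k σ B ((map_ne_zero_iff _ (toM_injective σ B)).2 ha) fun π hπ => (key π hπ).1
  obtain ⟨m₂, q₂, hm₂, hq₂, hb'⟩ := exists_eq_kt k σ B ((map_ne_zero_iff _ (toM_injective σ B)).2 hb) fun π hπ => (key π hπ).2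
  obtain ⟨x₁, y₁, hy₁, hxy₁⟩ := IsFractionRing.div_surjective (A := B) (m₁ / m₂)
  have hy0 : y₁ ≠ 0 := nonZeroDivisors.ne_zero hy₁
  have hx0 : x₁ ≠ 0 := fun h0 => div_ne_zero hm₁ hm₂ (by rw [← hxy₁, h0, map_zero, zero_div])
  refine ⟨q₁, q₂, x₁, y₁, hq₁, hq₂, hx0, hy0, ?_⟩
  have hne : ∀ {c : MvPolynomial σ B}, c ≠ 0 → toFn σ B R c ≠ 0 := fun hc => (map_ne_zero_iff _ hF).2 hc
  have hk0 : kt k σ B q₂ ≠ 0 := (map_ne_zero_iff _ (kt_injective k σ B)).2 hq₂
  rw [div_mul_div_comm, div_eq_div_iff (hne hb) (mul_ne_zero (hne hk0) (hne (by simpa using hy0))),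
    ← map_mul, ← map_mul, ← map_mul, ← map_mul]
  congr 1
  refine toM_injective σ B ?_
  simp only [map_mul, ha', hb']
  simp only [toM, MvPolynomial.map_C]
  have hm : m₁ * algebraMap B _ y₁ = algebraMap B _ x₁ * m₂ := by
    rw [div_eq_div_iff (IsFractionRing.to_map_ne_zero_of_mem_nonZeroDivisors hy₁) hm₂] at hxy₁
    linear_combination -hxy₁
  have hC := congrArg (C (σ := σ)) hm
  simp only [C_mul] at hC
  linear_combination (MvPolynomial.map (algebraMap B (FractionRing B)) (kt k σ B q₁) *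
    MvPolynomial.map (algebraMap B (FractionRing B)) (kt k σ B q₂)) * hC

include hd in
/-- Prescribing the orders at finitely many mixed divisors. -/
theorem exists_div_eq [IsAlgClosed k] [IsLocallyNoetherian (Spec (CommRingCat.of R))] (hg : g ≠ 0)
    (n : ↥(Spec (CommRingCat.of R)) → ℤ) (hn : {z | IsMixedDiv k σ B R δ z ∧ n z ≠ 0}.Finite) :
    ∃ φ : (Spec (CommRingCat.of R)).residueField (genericPoint (Spec (CommRingCat.of R))), φ ≠ 0 ∧
      ∀ z, IsMixedDiv k σ B R δ z → Cyc.divFun δ (genericPoint (Spec (CommRingCat.of R))) φ z = n z := by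
  classical
  have hF := toFn_injective (k := k) (σ := σ) (B := B) (R := R) hg
  let s := hn.toFinset
  have hs : ∀ w ∈ s, IsMixedDiv k σ B R δ w := fun w hw => (hn.mem_toFinset.1 hw).1
  choose π hπ hπc using fun (w : s) => exists_gen hd hg (hs w.1 w.2)
  have hne : ∀ w : s, toFn σ B R (π w) ≠ 0 := fun w =>
    (map_ne_zero_iff _ hF).2 fun h0 => (hπ w).ne_zero (by rw [h0, map_zero])
  have hord : ∀ z, IsMixedDiv k σ B R δ z → ∀ w : s,
      Cyc.divFun δ (genericPoint (Spec (CommRingCat.of R))) (toFn σ B R (π w)) z = if w.1 = z then 1 else 0 := by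
    intro z hz w
    obtain ⟨πz, hπz, hzc⟩ := exists_gen hd hg hz
    obtain ⟨e, he, h0, h0', h1⟩ := ordAt_toFn hd hg hz hπz hzc (a := π w) fun h0 => (hπ w).ne_zero (by rw [h0, map_zero])
    split_ifs with hwz
    · obtain ⟨e', he', -, -, h1'⟩ := ordAt_toFn hd hg hz (hπ w) (hwz ▸ hπc w) (a := π w) fun h0 => (hπ w).ne_zero (by rw [h0, map_zero])
      rw [he', h1' rfl]; rfl
    · rw [he, h0' fun hdv => hwz ?_]
      · rfl
      · refine comap_injective (Submonoid.powers (kt k σ B g)) ((hπc w).trans ?_)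
        rw [hzc, Ideal.span_singleton_eq_span_singleton.2 ((hπz.associated_of_dvd (hπ w) hdv)).symm]
  refine ⟨∏ w : s, toFn σ B R (π w) ^ n w.1, Finset.prod_ne_zero_iff.2 fun w _ => zpow_ne_zero _ (hne w), fun z hz => ?_⟩
  have hsum : ∀ t : Finset s, Cyc.divFun δ (genericPoint (Spec (CommRingCat.of R))) (∏ w ∈ t, toFn σ B R (π w) ^ n w.1) z =
      ∑ w ∈ t, n w.1 * if w.1 = z then 1 else 0 := by
    intro t
    induction t using Finset.induction_on with
    | empty =>
      rw [Finset.prod_empty, Finset.sum_empty]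
      simp only [Cyc.divFun]
      split_ifs with hh
      · exact Cyc26.ordFrac_one
      · rfl
    | insert w t hwt ih =>
      rw [Finset.prod_insert hwt, Finset.sum_insert hwt, Cyc26.divFun_mul _ z (zpow_ne_zero _ (hne w))
        (Finset.prod_ne_zero_iff.2 fun v _ => zpow_ne_zero _ (hne v)), ih, Cyc26.divFun_zpow _ z (hne w), hord z hz]
  rw [hsum]
  by_cases hzs : z ∈ s
  · rw [Finset.sum_eq_single (⟨z, hzs⟩ : s) (fun w _ hw => by rw [if_neg fun e => hw (Subtype.ext e), mul_zero])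
      (fun h => absurd (Finset.mem_univ _) h), if_pos rfl, mul_one]
  · rw [Finset.sum_eq_zero fun w _ => by rw [if_neg fun e : w.1 = z => hzs (by rw [← e]; exact w.2), mul_zero]]
    by_contra h
    exact hzs (hn.mem_toFinset.2 ⟨hz, fun h0 => h h0.symm⟩)

end Order

end Groth.Agent.ClProd26
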